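import Mathlib

/-!
# S5714, piece A3: few pairs of permutations generate a transitive imprimitive group (helper560)
-/

set_option autoImplicit false
set_option linter.unusedSectionVars false

namespace Cfsg.Agent.H560.Rg

open MulAction Equiv

variable {α : Type} [Fintype α] [DecidableEq α]

theorem equivOf {A B : Type*} [Finite A] [Finite B] (h : Nat.card A = Nat.card B) : Nonempty (A ≃ B) := by
  have := Fintype.ofFinite A
  have := Fintype.ofFinite B
  exact ⟨Fintype.equivOfCardEq (by rw [← Nat.card_eq_fintype_card, ← Nat.card_eq_fintype_card, h])⟩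

/-- the action of the permutations on the partitions -/
@[reducible] def actS (α : Type) : MulAction (Equiv.Perm α) (Setoid α) where
  smul σ r := r.comap σ.symm
  one_smul _ := rfl
  mul_smul _ _ _ := rfl

attribute [local instance] actS

theorem smul_rel (σ : Equiv.Perm α) (r : Setoid α) (i j : α) : (σ • r) i j ↔ r (σ.symm i) (σ.symm j) := Iff.rfl

instance finiteSetoid : Finite (Setoid α) :=
  Finite.of_injective (fun r : Setoid α => fun a b => r a b) fun r s h => by
    ext a b
    exact iff_of_eq (congrFun (congrFun h a) b)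

/-- the partitions into blocks of size `a` -/
def RR (α : Type) (a : ℕ) : Set (Setoid α) := {r | ∀ i, Nat.card {j // r i j} = a}

theorem card_class {r : Setoid α} {a : ℕ} (hr : r ∈ RR α a) (q : Quotient r) :
    Nat.card {i // (Quotient.mk r i) = q} = a := by
  obtain ⟨i, rfl⟩ := Quotient.exists_rep q
  rw [← hr i]
  refine Nat.card_congr (Equiv.subtypeEquivRight fun j => ?_)
  rw [Quotient.eq]
  exact ⟨fun h => r.symm h, fun h => r.symm h⟩

theorem card_quot {r : Setoid α} {a : ℕ} (hr : r ∈ RR α a) : Nat.card (Quotient r) * a = Nat.card α := by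
  classical
  rw [Nat.card_congr (Equiv.sigmaFiberEquiv (Quotient.mk r)).symm, Nat.card_sigma,
    Finset.sum_congr rfl fun q _ => card_class hr q, Finset.sum_const, smul_eq_mul, Finset.card_univ,
    Nat.card_eq_fintype_card]

theorem trans_RR {r r' : Setoid α} {a : ℕ} (ha : 0 < a) (hr : r ∈ RR α a) (hr' : r' ∈ RR α a) :
    ∃ σ : Equiv.Perm α, σ • r = r' := by
  classical
  have h1 : Nat.card (Quotient r) = Nat.card (Quotient r') :=
    Nat.eq_of_mul_eq_mul_right ha ((card_quot hr).trans (card_quot hr').symm)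
  obtain ⟨e⟩ : Nonempty (Quotient r ≃ Quotient r') := equivOf h1
  have h2 : ∀ q : Quotient r, Nonempty ({i // (Quotient.mk r i) = q} ≃ {i // (Quotient.mk r' i) = e q}) := fun q =>
    equivOf ((card_class hr q).trans (card_class hr' (e q)).symm)
  let F := fun q : Quotient r => Classical.choice (h2 q)
  let σ : Equiv.Perm α := (Equiv.sigmaFiberEquiv (Quotient.mk r)).symm.trans
    ((Equiv.sigmaCongr e F).trans (Equiv.sigmaFiberEquiv (Quotient.mk r')))
  have hσ : ∀ i, Quotient.mk r' (σ i) = e (Quotient.mk r i) := fun i => (F (Quotient.mk r i) ⟨i, rfl⟩).2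
  refine ⟨σ, ?_⟩
  ext i j
  rw [smul_rel]
  have h3 := hσ (σ.symm i)
  have h4 := hσ (σ.symm j)
  rw [Equiv.apply_symm_apply] at h3 h4
  constructor
  · intro h
    apply Quotient.exact
    rw [h3, h4]
    exact congrArg e (Quotient.sound h)
  · intro h
    apply Quotient.exact
    apply e.injective
    rw [← h3, ← h4]
    exact Quotient.sound h

theorem smul_mem {r : Setoid α} {a : ℕ} (hr : r ∈ RR α a) (σ : Equiv.Perm α) : σ • r ∈ RR α a := by
  intro i
  rw [← hr (σ.symm i)]
  exact Nat.card_congr (σ.symm.subtypeEquiv fun j => Iff.rfl)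

theorem card_stab {r : Setoid α} {a : ℕ} (ha : 0 < a) (hr : r ∈ RR α a) :
    Nat.card (RR α a) * Nat.card (stabilizer (Equiv.Perm α) r) = (Fintype.card α).factorial := by
  have h1 : orbit (Equiv.Perm α) r = RR α a := by
    ext s
    constructor
    · rintro ⟨σ, rfl⟩
      exact smul_mem hr σ
    · intro hs
      exact trans_RR ha hr hs
  have h2 := Nat.card_congr (MulAction.orbitProdStabilizerEquivGroup (Equiv.Perm α) r)
  rw [Nat.card_prod, h1] at h2
  rw [h2, Nat.card_eq_fintype_card, Fintype.card_perm]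

/-- the number of partitions is at least the number of blocks through a point -/
theorem lower {r : Setoid α} {a : ℕ} (ha : 0 < a) (hr : r ∈ RR α a) (o : α) :
    (Fintype.card α - 1).choose (a - 1) ≤ Nat.card (RR α a) := by
  classical
  have h1 : (Fintype.card α - 1).choose (a - 1) = Nat.card (Finset.powersetCard (a - 1) (Finset.univ.erase o)) := by
    rw [Nat.card_eq_fintype_card, Fintype.card_coe, Finset.card_powersetCard, Finset.card_erase_of_mem (Finset.mem_univ o),
      Finset.card_univ]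
  rw [h1]
  have key : ∀ A : Finset.powersetCard (a - 1) (Finset.univ.erase o), ∃ σ : Equiv.Perm α, ∀ j,
      r o j ↔ σ j ∈ insert o A.1 := by
    rintro ⟨A, hA⟩
    rw [Finset.mem_powersetCard] at hA
    have ho : o ∉ A := fun h => by
      have := hA.1 h
      simp at this
    have h2 : Nat.card {j // r o j} = Nat.card {j // j ∈ insert o A} := by
      rw [hr o, Nat.card_eq_fintype_card, Fintype.card_coe, Finset.card_insert_of_notMem ho, hA.2]
      omega
    obtain ⟨e⟩ : Nonempty ({j // r o j} ≃ {j // j ∈ insert o A}) := equivOf h2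
    refine ⟨e.extendSubtype, fun j => ⟨fun h => e.extendSubtype_mem j h, fun h => ?_⟩⟩
    by_contra hn
    exact e.extendSubtype_not_mem j hn h
  choose σ hσ using key
  refine Nat.card_le_card_of_injective (fun A => (⟨σ A • r, smul_mem hr _⟩ : RR α a)) ?_
  intro A A' hAA
  have h2 : σ A • r = σ A' • r := congrArg Subtype.val hAA
  -- the class of `o`
  have h3 : ∀ A j, (σ A • r) o j ↔ j ∈ insert o A.1 := by
    intro A j
    rw [smul_rel]
    have h4 : r o ((σ A).symm o) := (hσ A _).2 (by rw [Equiv.apply_symm_apply]; exact Finset.mem_insert_self _ _)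
    have h5 : r o ((σ A).symm j) ↔ j ∈ insert o A.1 := by
      rw [hσ A, Equiv.apply_symm_apply]
    rw [← h5]
    exact ⟨fun h => r.trans h4 h, fun h => r.trans (r.symm h4) h⟩
  have h4 : insert o A.1 = insert o A'.1 := by
    ext j
    rw [← h3 A, ← h3 A', h2]
  have ho : ∀ A : Finset.powersetCard (a - 1) (Finset.univ.erase o), o ∉ A.1 := fun A h => by
    have := (Finset.mem_powersetCard.1 A.2).1 h
    simp at this
  apply Subtype.ext
  rw [← Finset.erase_insert (ho A), ← Finset.erase_insert (ho A'), h4]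

open scoped Pointwise

/-- the partition of a transitive imprimitive group -/
theorem exists_RR {G : Subgroup (Equiv.Perm α)} (ht : IsPretransitive G α) (hn : ¬ IsPreprimitive G α) :
    ∃ a, 2 ≤ a ∧ 2 * a ≤ Fintype.card α ∧ ∃ r ∈ RR α a, G ≤ stabilizer (Equiv.Perm α) r := by
  classical
  obtain ⟨B, hB, hBt⟩ : ∃ B : Set α, IsBlock G B ∧ ¬ IsTrivialBlock B := by
    by_contra hcon
    push Not at hcon
    exact hn { isTrivialBlock_of_isBlock := fun {B} hB => hcon B hB }
  rw [IsTrivialBlock, not_or] at hBt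
  obtain ⟨hB1, hB2⟩ := hBt
  rw [Set.not_subsingleton_iff] at hB1
  obtain ⟨b, hb⟩ := hB1.nonempty
  have hcov : ∀ i : α, ∃ g : G, i ∈ g • B := fun i => by
    obtain ⟨g, hg⟩ := exists_smul_eq G b i
    exact ⟨g, hg ▸ Set.smul_mem_smul_set hb⟩
  have heq : ∀ (g g' : G) (i : α), i ∈ g • B → i ∈ g' • B → g • B = g' • B := by
    intro g g' i h1 h2
    by_contra h3
    exact Set.disjoint_left.1 (hB h3) h1 h2
  let r : Setoid α :=
    { r := fun i j => ∃ g : G, i ∈ g • B ∧ j ∈ g • B
      iseqv :=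
        { refl := fun i => by
            obtain ⟨g, hg⟩ := hcov i
            exact ⟨g, hg, hg⟩
          symm := fun {i j} h => by
            obtain ⟨g, h1, h2⟩ := h
            exact ⟨g, h2, h1⟩
          trans := fun {i j k} h h' => by
            obtain ⟨g, h1, h2⟩ := h
            obtain ⟨g', h3, h4⟩ := h'
            refine ⟨g, h1, ?_⟩
            rw [heq g g' j h2 h3]
            exact h4 } }
  have hr : ∀ i j, r i j ↔ ∃ g : G, i ∈ g • B ∧ j ∈ g • B := fun _ _ => Iff.rfl
  have hcard : ∀ g : G, (g • B).ncard = B.ncard := fun g => Set.ncard_smul_set g B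
  refine ⟨B.ncard, ?_, ?_, r, ?_, ?_⟩
  · have := (Set.one_lt_ncard (Set.toFinite B)).2 ?_
    · exact this
    · obtain ⟨x, hx, y, hy, hxy⟩ := hB1
      exact ⟨x, hx, y, hy, hxy⟩
  · obtain ⟨i, hi⟩ : ∃ i, i ∉ B := by
      by_contra hcon
      push Not at hcon
      exact hB2 (Set.eq_univ_of_forall hcon)
    obtain ⟨g, hg⟩ := hcov i
    have hne : g • B ≠ (1 : G) • B := by
      rw [one_smul]
      intro h
      rw [h] at hg
      exact hi hg
    have hd := hB hne
    rw [one_smul] at hd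
    have h1 := Set.ncard_union_eq hd (Set.toFinite _) (Set.toFinite _)
    rw [hcard] at h1
    have h2 : (g • B ∪ B).ncard ≤ Fintype.card α := by
      rw [← Nat.card_eq_fintype_card, ← Set.ncard_univ]
      exact Set.ncard_le_ncard (Set.subset_univ _) (Set.toFinite _)
    omega
  · intro i
    obtain ⟨g, hg⟩ := hcov i
    rw [← hcard g, ← Nat.card_coe_set_eq]
    refine Nat.card_congr (Equiv.subtypeEquivRight fun j => ?_)
    rw [hr]
    constructor
    · rintro ⟨g', h1, h2⟩
      rw [heq g g' i hg h1]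
      exact h2
    · intro h
      exact ⟨g, hg, h⟩
  · intro σ hσ
    rw [mem_stabilizer_iff]
    ext i j
    rw [smul_rel, hr, hr]
    have key : ∀ (g : G) (k : α), σ.symm k ∈ g • B ↔ k ∈ ((⟨σ, hσ⟩ : G) * g) • B := by
      intro g k
      rw [mul_smul, Set.mem_smul_set_iff_inv_smul_mem (a := (⟨σ, hσ⟩ : G))]
      exact Iff.rfl
    constructor
    · rintro ⟨g, h1, h2⟩
      exact ⟨_, (key g i).1 h1, (key g j).1 h2⟩
    · rintro ⟨g, h1, h2⟩
      refine ⟨(⟨σ, hσ⟩ : G)⁻¹ * g, (key _ i).2 ?_, (key _ j).2 ?_⟩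
      · rw [mul_inv_cancel_left]; exact h1
      · rw [mul_inv_cancel_left]; exact h2

/-- the pairs in a transitive imprimitive group -/
abbrev BadPr (α : Type) : Type := {xy : Equiv.Perm α × Equiv.Perm α //
  IsPretransitive (Subgroup.closure {xy.1, xy.2}) α ∧ ¬ IsPreprimitive (Subgroup.closure {xy.1, xy.2}) α}

theorem card_bad (o : α) : (Nat.card (BadPr α) : ℝ) ≤
    ∑ a ∈ Finset.Icc 2 (Fintype.card α / 2), ((Fintype.card α).factorial : ℝ) ^ 2 / ((Fintype.card α - 1).choose (a - 1)) := by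
  classical
  have hex : ∀ xy : BadPr α, ∃ a, a ∈ Finset.Icc 2 (Fintype.card α / 2) ∧ ∃ r ∈ RR α a,
      xy.1.1 ∈ stabilizer (Equiv.Perm α) r ∧ xy.1.2 ∈ stabilizer (Equiv.Perm α) r := by
    rintro ⟨xy, h1, h2⟩
    obtain ⟨a, ha, ha', r, hr, hle⟩ := exists_RR h1 h2
    exact ⟨a, Finset.mem_Icc.2 ⟨ha, by omega⟩, r, hr, hle (Subgroup.subset_closure (by simp)),
      hle (Subgroup.subset_closure (by simp))⟩
  choose A hA r hr hx hy using hex
  have hfin : ∀ a, Finite (RR α a) := fun a => inferInstance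
  have hft : ∀ a, Fintype (RR α a) := fun a => Fintype.ofFinite _
  have hle : Nat.card (BadPr α) ≤ Nat.card (Σ a : Finset.Icc 2 (Fintype.card α / 2), Σ s : RR α a.1,
      stabilizer (Equiv.Perm α) s.1 × stabilizer (Equiv.Perm α) s.1) := by
    refine Nat.card_le_card_of_injective (fun xy => ⟨⟨A xy, hA xy⟩, ⟨r xy, hr xy⟩, ⟨xy.1.1, hx xy⟩, ⟨xy.1.2, hy xy⟩⟩) ?_
    intro xy xy' h
    have h1 := congrArg (fun z : (Σ a : Finset.Icc 2 (Fintype.card α / 2), Σ s : RR α a.1,
      stabilizer (Equiv.Perm α) s.1 × stabilizer (Equiv.Perm α) s.1) => ((z.2.2.1 : Equiv.Perm α), (z.2.2.2 : Equiv.Perm α))) h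
    exact Subtype.ext h1
  have hsum : (Nat.card (Σ a : Finset.Icc 2 (Fintype.card α / 2), Σ s : RR α a.1,
      stabilizer (Equiv.Perm α) s.1 × stabilizer (Equiv.Perm α) s.1) : ℝ) =
      ∑ a : Finset.Icc 2 (Fintype.card α / 2), ∑ s : RR α a.1, (Nat.card (stabilizer (Equiv.Perm α) s.1) : ℝ) ^ 2 := by
    rw [Nat.card_sigma]
    push_cast
    refine Finset.sum_congr rfl fun a _ => ?_
    rw [Nat.card_sigma]
    push_cast
    refine Finset.sum_congr rfl fun s _ => ?_
    rw [Nat.card_prod, Nat.cast_mul, pow_two]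
  have hle' : (Nat.card (BadPr α) : ℝ) ≤
      ∑ a : Finset.Icc 2 (Fintype.card α / 2), ∑ s : RR α a.1, (Nat.card (stabilizer (Equiv.Perm α) s.1) : ℝ) ^ 2 := by
    rw [← hsum]
    exact_mod_cast hle
  refine hle'.trans ?_
  rw [← Finset.sum_coe_sort (Finset.Icc 2 (Fintype.card α / 2))
    (fun a => ((Fintype.card α).factorial : ℝ) ^ 2 / ((Fintype.card α - 1).choose (a - 1)))]
  refine Finset.sum_le_sum fun a _ => ?_
  have ha := Finset.mem_Icc.1 a.2
  have ha0 : 0 < a.1 := by omega
  have hch : 0 < (Fintype.card α - 1).choose (a.1 - 1) := Nat.choose_pos (by omega)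
  have hch' : (0 : ℝ) < ((Fintype.card α - 1).choose (a.1 - 1) : ℝ) := by exact_mod_cast hch
  by_cases hne : Nonempty (RR α a.1)
  · obtain ⟨⟨s0, hs0⟩⟩ := hne
    have hlow := lower ha0 hs0 o
    have hR : 0 < Nat.card (RR α a.1) := lt_of_lt_of_le hch hlow
    have hR' : (0 : ℝ) < (Nat.card (RR α a.1) : ℝ) := by exact_mod_cast hR
    have h1 : ∀ s : RR α a.1, (Nat.card (stabilizer (Equiv.Perm α) s.1) : ℝ) ^ 2 =
        (((Fintype.card α).factorial : ℝ) / (Nat.card (RR α a.1))) ^ 2 := by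
      intro s
      have h2 := card_stab ha0 s.2
      have h3 : (Nat.card (RR α a.1) : ℝ) * Nat.card (stabilizer (Equiv.Perm α) s.1) = (Fintype.card α).factorial := by
        exact_mod_cast h2
      rw [← h3, mul_div_cancel_left₀ _ hR'.ne']
    rw [Finset.sum_congr rfl fun s _ => h1 s, Finset.sum_const, Finset.card_univ, nsmul_eq_mul,
      ← Nat.card_eq_fintype_card, div_pow]
    have h4 : (Nat.card (RR α a.1) : ℝ) * (((Fintype.card α).factorial : ℝ) ^ 2 / (Nat.card (RR α a.1) : ℝ) ^ 2) =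
        ((Fintype.card α).factorial : ℝ) ^ 2 / (Nat.card (RR α a.1) : ℝ) := by
      field_simp
    rw [h4]
    exact div_le_div_of_nonneg_left (by positivity) hch' (by exact_mod_cast hlow)
  · rw [not_nonempty_iff] at hne
    rw [Finset.univ_eq_empty, Finset.sum_empty]
    positivity

/-- the binomial coefficients -/
theorem choose_ge {m k : ℕ} (h2 : 2 ≤ k) (hk : 2 * k ≤ m) : m.choose 2 ≤ m.choose k := by
  induction k, h2 using Nat.le_induction with
  | base => exact le_rfl
  | succ k hk2 ih => exact (ih (by omega)).trans (Nat.choose_le_succ_of_lt_half_left (by omega))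

/-- **few pairs generate a transitive imprimitive group** -/
theorem not_prim : ∀ ε : ℝ, 0 < ε → ∃ N : ℕ, ∀ n : ℕ, N ≤ n →
    (Nat.card {xy : Equiv.Perm (Fin n) × Equiv.Perm (Fin n) //
      MulAction.IsPretransitive (Subgroup.closure {xy.1, xy.2}) (Fin n) ∧
      ¬ MulAction.IsPreprimitive (Subgroup.closure {xy.1, xy.2}) (Fin n)} : ℝ) ≤ ε * (n.factorial : ℝ) ^ 2 := by
  intro ε hε
  obtain ⟨N, hN⟩ := exists_nat_gt (2 / ε)
  refine ⟨N + 6, fun n hn => ?_⟩
  have hn0 : 0 < n := by omega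
  have h1 := card_bad (α := Fin n) ⟨0, hn0⟩
  rw [Fintype.card_fin] at h1
  refine h1.trans ?_
  have hn1 : (6 : ℝ) ≤ n := by exact_mod_cast (by omega : 6 ≤ n)
  have hnN : (N : ℝ) ≤ n - 6 := by
    have : ((N + 6 : ℕ) : ℝ) ≤ n := by exact_mod_cast hn
    push_cast at this
    linarith
  have hIcc : Finset.Icc 2 (n / 2) = insert 2 (Finset.Icc 3 (n / 2)) := by
    ext a
    rw [Finset.mem_insert, Finset.mem_Icc, Finset.mem_Icc]
    omega
  rw [hIcc, Finset.sum_insert (by rw [Finset.mem_Icc]; omega)]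
  have hf : (0 : ℝ) ≤ (n.factorial : ℝ) ^ 2 := by positivity
  have hc1 : (((n - 1).choose (2 - 1) : ℕ) : ℝ) = n - 1 := by
    rw [show 2 - 1 = 1 from rfl, Nat.choose_one_right, Nat.cast_sub (by omega), Nat.cast_one]
  have hc2 : (((n - 1).choose 2 : ℕ) : ℝ) = (n - 1) * (n - 2) / 2 := by
    rw [Nat.cast_choose_two, Nat.cast_sub (by omega), Nat.cast_one]
    ring
  have hpos2 : (0 : ℝ) < (n - 1) * (n - 2) / 2 := by
    apply div_pos _ two_pos
    apply mul_pos <;> linarith
  have h2 : ∑ a ∈ Finset.Icc 3 (n / 2), (n.factorial : ℝ) ^ 2 / ((n - 1).choose (a - 1)) ≤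
      ((n : ℝ) / 2) * ((n.factorial : ℝ) ^ 2 / ((n - 1) * (n - 2) / 2)) := by
    have h3 : ∀ a ∈ Finset.Icc 3 (n / 2), (n.factorial : ℝ) ^ 2 / ((n - 1).choose (a - 1)) ≤
        (n.factorial : ℝ) ^ 2 / ((n - 1) * (n - 2) / 2) := by
      intro a ha
      rw [Finset.mem_Icc] at ha
      rw [← hc2]
      refine div_le_div_of_nonneg_left hf (by rw [hc2]; exact hpos2) ?_
      exact_mod_cast choose_ge (by omega) (by omega)
    refine (Finset.sum_le_sum h3).trans ?_
    rw [Finset.sum_const, nsmul_eq_mul, Nat.card_Icc]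
    refine mul_le_mul_of_nonneg_right ?_ (div_nonneg hf hpos2.le)
    have h4 : ((n / 2 + 1 - 3 : ℕ) : ℝ) ≤ ((n / 2 : ℕ) : ℝ) := by exact_mod_cast (by omega : n / 2 + 1 - 3 ≤ n / 2)
    exact h4.trans Nat.cast_div_le
  rw [hc1]
  have h5 : (n.factorial : ℝ) ^ 2 / (n - 1) + ((n : ℝ) / 2) * ((n.factorial : ℝ) ^ 2 / ((n - 1) * (n - 2) / 2)) =
      (2 / (n - 2)) * (n.factorial : ℝ) ^ 2 := by
    have e1 : (n : ℝ) - 1 ≠ 0 := by linarith
    have e2 : (n : ℝ) - 2 ≠ 0 := by linarith
    field_simp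
    ring
  calc _ ≤ (n.factorial : ℝ) ^ 2 / (n - 1) + ((n : ℝ) / 2) * ((n.factorial : ℝ) ^ 2 / ((n - 1) * (n - 2) / 2)) :=
        add_le_add le_rfl h2
    _ = (2 / (n - 2)) * (n.factorial : ℝ) ^ 2 := h5
    _ ≤ ε * (n.factorial : ℝ) ^ 2 := by
      refine mul_le_mul_of_nonneg_right ?_ hf
      rw [div_le_iff₀ (by linarith)]
      rw [div_lt_iff₀ hε] at hN
      nlinarith

end Cfsg.Agent.H560.Rg
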